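import Cfsg.Agent.Coset.Ru.Out.Defs

set_option autoImplicit false
set_option maxRecDepth 100000
set_option Elab.async false

namespace CfsgLib.Coset.Ru.Out

open CfsgLib.Coset

theorem centT0 : belowBlock 8 4060 centT 0 = true := by decide +kernel
theorem centT1 : belowBlock 8 4060 centT 1 = true := by decide +kernel
theorem centT2 : belowBlock 8 4060 centT 2 = true := by decide +kernel
theorem centT3 : belowBlock 8 4060 centT 3 = true := by decide +kernel
theorem centT4 : belowBlock 8 4060 centT 4 = true := by decide +kernel
theorem centT5 : belowBlock 8 4060 centT 5 = true := by decide +kernel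
theorem centT6 : belowBlock 8 4060 centT 6 = true := by decide +kernel
theorem centT7 : belowBlock 8 4060 centT 7 = true := by decide +kernel

end CfsgLib.Coset.Ru.Out
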