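import Cfsg.Agent.Coset.Ru.Out.Defs

set_option autoImplicit false
set_option maxRecDepth 100000
set_option Elab.async false

namespace CfsgLib.Coset.Ru.Out

open CfsgLib.Coset

theorem centT8 : belowBlock 8 4060 centT 8 = true := by decide +kernel
theorem centT9 : belowBlock 8 4060 centT 9 = true := by decide +kernel
theorem centT10 : belowBlock 8 4060 centT 10 = true := by decide +kernel
theorem centT11 : belowBlock 8 4060 centT 11 = true := by decide +kernel
theorem centT12 : belowBlock 8 4060 centT 12 = true := by decide +kernel
theorem centT13 : belowBlock 8 4060 centT 13 = true := by decide +kernel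
theorem centT14 : belowBlock 8 4060 centT 14 = true := by decide +kernel
theorem centT15 : belowBlock 8 4060 centT 15 = true := by decide +kernel

end CfsgLib.Coset.Ru.Out
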