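import Cfsg.Agent.Coset.Ru.Out.Defs

set_option autoImplicit false
set_option maxRecDepth 100000
set_option Elab.async false

namespace CfsgLib.Coset.Ru.Out

open CfsgLib.Coset

theorem centU0 : belowBlock 8 4060 centU 0 = true := by decide +kernel
theorem centU1 : belowBlock 8 4060 centU 1 = true := by decide +kernel
theorem centU2 : belowBlock 8 4060 centU 2 = true := by decide +kernel
theorem centU3 : belowBlock 8 4060 centU 3 = true := by decide +kernel
theorem centU4 : belowBlock 8 4060 centU 4 = true := by decide +kernel
theorem centU5 : belowBlock 8 4060 centU 5 = true := by decide +kernel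
theorem centU6 : belowBlock 8 4060 centU 6 = true := by decide +kernel
theorem centU7 : belowBlock 8 4060 centU 7 = true := by decide +kernel

end CfsgLib.Coset.Ru.Out
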