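import Cfsg.Agent.Coset.Ru.Out.Defs

set_option autoImplicit false
set_option maxRecDepth 100000
set_option Elab.async false

namespace CfsgLib.Coset.Ru.Out

open CfsgLib.Coset

theorem centU8 : belowBlock 8 4060 centU 8 = true := by decide +kernel
theorem centU9 : belowBlock 8 4060 centU 9 = true := by decide +kernel
theorem centU10 : belowBlock 8 4060 centU 10 = true := by decide +kernel
theorem centU11 : belowBlock 8 4060 centU 11 = true := by decide +kernel
theorem centU12 : belowBlock 8 4060 centU 12 = true := by decide +kernel
theorem centU13 : belowBlock 8 4060 centU 13 = true := by decide +kernel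
theorem centU14 : belowBlock 8 4060 centU 14 = true := by decide +kernel
theorem centU15 : belowBlock 8 4060 centU 15 = true := by decide +kernel

end CfsgLib.Coset.Ru.Out
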