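import Cfsg.Agent.Coset.Ru.Out.Defs
import Cfsg.Agent.Coset.Ru.Out.ChkU0
import Cfsg.Agent.Coset.Ru.Out.ChkU1
import Cfsg.Agent.Coset.Ru.Out.ChkT0
import Cfsg.Agent.Coset.Ru.Out.ChkT1
import Cfsg.Agent.Coset.Ru.PtsData
import Cfsg.Agent.Coset.Repack
import Mathlib.Tactic.IntervalCases

/-! Boolean checks for the automorphisms of the presented Rudvalis group. -/

set_option autoImplicit false
set_option maxRecDepth 100000
set_option Elab.async false

namespace CfsgLib.Coset.Ru.Out

open CfsgLib.Coset

theorem centU_all : allBelow (8 + 4) 4060 centU = true :=
  allBelow_of_blocks (by decide +kernel) fun b hb => by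
    have : b < 16 := hb
    interval_cases b
    · exact centU0
    · exact centU1
    · exact centU2
    · exact centU3
    · exact centU4
    · exact centU5
    · exact centU6
    · exact centU7
    · exact centU8
    · exact centU9
    · exact centU10
    · exact centU11
    · exact centU12
    · exact centU13
    · exact centU14
    · exact centU15

theorem centT_all : allBelow (8 + 4) 4060 centT = true :=
  allBelow_of_blocks (by decide +kernel) fun b hb => by
    have : b < 16 := hb
    interval_cases b
    · exact centT0
    · exact centT1
    · exact centT2
    · exact centT3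
    · exact centT4
    · exact centT5
    · exact centT6
    · exact centT7
    · exact centT8
    · exact centT9
    · exact centT10
    · exact centT11
    · exact centT12
    · exact centT13
    · exact centT14
    · exact centT15

theorem tb_ok : allBelow 12 4060 (sameRow Pts.Tb Tb 5) = true := by decide +kernel

theorem levT : allBelow 2 4 (ST.checkLev Tb 4060 5 12) = true := by decide +kernel

theorem levU : allBelow 2 4 (SU.checkLev Tb 4060 5 12) = true := by decide +kernel

theorem tabU_ok : allBelow 12 4060 (fun p => Nat.beq (tabU p) (followF (tget Tb) p uW)) = true := by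
  decide +kernel

theorem tabT_ok : allBelow 12 4060 (fun p => Nat.beq (tabT p) (followF (tget Tb) p tW)) = true := by
  decide +kernel

theorem baseU : allBelow 2 4 (fun i =>
    Nat.beq (SU.B i) (iterF tabU (expU.getD i 0) (SU.B 0))) = true := by decide +kernel

theorem baseT : allBelow 2 4 (fun i =>
    Nat.beq (ST.B i) (iterF tabT (expT.getD i 0) (ST.B 0))) = true := by decide +kernel

theorem letters_ok : checkLetters 5 [uW, sW, tW, zW] = true := by decide +kernel

theorem u_ok : cond (ST.eqB Tb (rep 29 uW) []) (cond (ST.eqB Tb uW []) false true) false =
    true := by decide +kernel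

theorem s_ok : ST.eqB Tb (uW ++ sW) (sW ++ rep 4 uW) = true := by decide +kernel

theorem z_comm : ST.eqB Tb (zW ++ tW) (tW ++ zW) = true := by decide +kernel

theorem z_sq : ST.eqB Tb (zW ++ zW) [] = true := by decide +kernel

theorem z_tests : tests 1 zW = true := by decide +kernel

theorem gen_ok : allBelow 3 5 (fun l =>
    cond (checkLetters 5 [sylW (genA.getD l [])])
      (ST.eqB Tb (sylW (genA.getD l [])) [l]) false) = true := by decide +kernel

end CfsgLib.Coset.Ru.Out
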