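import Cfsg.Agent.Coset.Sift

set_option autoImplicit false

namespace CfsgLib.Coset.Ru.Out

/-- An element of order 29. -/
def uW : List Nat := [1, 2, 4, 3]

/-- An element of order 14 normalising the subgroup of order 29. -/
def sW : List Nat := [1, 0, 2, 1, 2, 3, 1, 0, 3, 1, 0, 2, 0, 2, 0, 3, 0, 1, 3, 2, 1, 2, 0, 3, 0, 4, 1, 2, 3, 4, 2, 4, 0, 2, 4, 2, 0, 3, 4, 3, 4, 3, 1, 4, 0, 4]

/-- An involution centralising the square of the element of order 14. -/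
def zW : List Nat := [4, 1, 2, 3, 4, 2, 4, 0, 2, 4, 0, 1, 0, 3, 1, 0, 1, 2, 0, 2, 3, 0, 2, 0, 1, 3, 1, 0, 2, 0, 3, 1, 0, 2, 0, 3, 0, 1, 3, 0, 1, 2, 1, 0, 3, 0, 1, 3, 1, 2, 1, 2, 0, 2, 3, 1, 3, 0, 3, 1, 0, 3, 2, 0, 2, 0, 3, 0, 3, 2, 4, 3, 4, 0]

/-- The exponents giving the base of `SU`. -/
def expU : List Nat := [0, 3, 5, 11]

/-- The exponents giving the base of `ST`. -/
def expT : List Nat := [0, 1, 2, 4]

/-- The generators as products of powers of the element of order 29 times the involution. -/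
def genA : List (List Nat) := [[19, 13, 10, 11, 18, 16, 11, 16], [17, 25, 1, 4, 5, 18, 16, 27], [8, 24, 6, 3, 16, 25, 13, 6], [24, 8, 16, 20, 22, 18, 25, 4, 1], [11, 8, 12, 16, 4, 22, 25, 5]]

end CfsgLib.Coset.Ru.Out
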