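import Cfsg.Agent.Coset.Sift
import Cfsg.Agent.Coset.Blocks
import Cfsg.Agent.Coset.Ru.Out.Words
import Cfsg.Agent.Coset.Ru.Out.DataTb
import Cfsg.Agent.Coset.Ru.Out.DataPerm
import Cfsg.Agent.Coset.Ru.Out.DataU
import Cfsg.Agent.Coset.Ru.Out.DataT

/-! Boolean tests for the automorphisms of the presented Rudvalis group. -/

set_option autoImplicit false

namespace CfsgLib.Coset.Ru.Out

open CfsgLib.Coset

section Kernel

/-- Repetition of a word. -/
noncomputable def rep (m : Nat) (w : List Nat) : List Nat :=
  Nat.rec (motive := fun _ => List Nat) [] (fun _ ih => w ++ ih) m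

/-- The square of the normalising element. -/
def tW : List Nat := sW ++ sW

/-- Iterate a tabulated permutation. -/
noncomputable def iterF (tab : Nat → Nat) (e q : Nat) : Nat :=
  Nat.rec (motive := fun _ => Nat) q (fun _ ih => force ih tab) e

/-- A product of syllables. -/
noncomputable def sylW (a : List Nat) : List Nat :=
  List.rec (motive := fun _ => List Nat) [] (fun e _ ih => (rep e uW ++ zW) ++ ih) a

/-- The word of the long test. -/
noncomputable def t3W (c : Nat) (w : List Nat) : List Nat :=
  rep 26 ((rep c uW ++ w) ++ ((rep (Nat.mul 2 c) uW ++ w) ++ (rep (Nat.mul 3 c) uW ++ w)))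

/-- The tests passed by the involution, relative to a power of the element of order 29. -/
noncomputable def tests (c : Nat) (w : List Nat) : Bool :=
  cond (ST.eqB Tb (rep 15 (rep c uW ++ w)) []) (ST.eqB Tb (t3W c w) []) false

/-- The word agrees with commuting with the tabulated permutation on the base. -/
noncomputable def commB (S : SiftData) (tab : Nat → Nat) (w : List Nat) : Bool :=
  allBelow 2 4 fun i => Nat.beq (force (followF (tget Tb) (S.B i) w) tab)
    (force (tab (S.B i)) fun p => followF (tget Tb) p w)

/-- A word commuting with `u` carries the first base point into its cycle. -/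
noncomputable def centU (q : Nat) : Bool :=
  SU.siftAll Tb (fun i => iterF tabU (expU.getD i 0) q) fun w =>
    cond (commB SU tabU w)
      (cond (allBelow 5 29 fun i => cond (Nat.beq q (iterF tabU i (SU.B 0))) false true) false true)
      true

/-- An involution commuting with the square of `s` fails the tests unless it is `zW`. -/
noncomputable def centT (q : Nat) : Bool :=
  ST.siftAll Tb (fun i => iterF tabT (expT.getD i 0) q) fun w =>
    cond (commB ST tabT w)
      (cond (ST.eqB Tb (w ++ w) [])
        (cond (tests 2 w) false
          (cond (ST.eqB Tb w zW) true (cond (tests 1 w) false true))) true) true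

end Kernel

end CfsgLib.Coset.Ru.Out
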