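import Cfsg.Agent.Coset.Ru.Main
import Cfsg.Agent.Coset.Ru.Out.Checks
import Cfsg.Prelude.Def_KGroupFacts
import Mathlib.GroupTheory.Sylow

/-!
Every automorphism of the presented Rudvalis group is inner.

An automorphism can be composed with an inner one to send an element `U` of order 29 to `U` or
`U ^ 2` and to fix an element `S` of order 14 normalising its subgroup.  The image of an involution
`Z` centralising `S ^ 2` then passes tests that exclude `U ^ 2` and determine it to be `Z`; and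
`U`, `Z` generate the group.
-/

set_option autoImplicit false
set_option maxRecDepth 100000
set_option Elab.async false

namespace CfsgLib.Coset.Ru.Out

open CfsgLib.Coset

local notation "Gr" => P

theorem matchesTb : Matches Lp ρ Tb :=
  matches_ρ.repack (d := 12) (by rw [len_Lp]; exact tb_ok)

theorem valid_of {D : SiftData} (hk : D.k = 4) (hiv : ∀ l, D.iv l = l)
    (hm : ∏ i : Fin D.k, D.m i = 145926144000)
    (h : allBelow 2 4 (D.checkLev Tb 4060 5 12) = true) : D.Valid Lp ρ Tb where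
  hm := matchesTb
  inv l := by rw [hiv, inv_eq_of_mul_eq_one_right (sq_p l)]
  inv_lt l hl := by rw [hiv]; exact hl
  lev i hi := ⟨12, by rw [len_Lp]; exact of_allBelow h i (hk ▸ hi)⟩
  card := by rw [card_P.1, hm]
  fin := card_P_le.1

theorem VT : ST.Valid Lp ρ Tb :=
  valid_of rfl (fun _ => rfl) (by show (∏ i : Fin 4, TM.getD i 0) = _; simp [TM, Fin.prod_univ_succ]) levT

theorem VU : SU.Valid Lp ρ Tb :=
  valid_of rfl (fun _ => rfl) (by show (∏ i : Fin 4, UM.getD i 0) = _; simp [UM, Fin.prod_univ_succ]) levU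

theorem kT : ST.k ≤ 8 := by decide

theorem lt5 {ws : List (List Nat)} (h : checkLetters 5 ws = true) {w : List Nat} (hw : w ∈ ws) :
    ∀ l ∈ w, l < (Lp).length := fun l hl => by rw [len_Lp]; exact letters_lt h w hw l hl

theorem lu : ∀ l ∈ uW, l < (Lp).length := lt5 letters_ok (by simp)
theorem ls : ∀ l ∈ sW, l < (Lp).length := lt5 letters_ok (by simp)
theorem lt : ∀ l ∈ tW, l < (Lp).length := lt5 letters_ok (by simp)
theorem lz : ∀ l ∈ zW, l < (Lp).length := lt5 letters_ok (by simp)

theorem lapp {u w : List Nat} (hu : ∀ l ∈ u, l < (Lp).length) (hw : ∀ l ∈ w, l < (Lp).length) :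
    ∀ l ∈ u ++ w, l < (Lp).length := fun l h => (List.mem_append.mp h).elim (hu l) (hw l)

theorem lrep {w : List Nat} (hw : ∀ l ∈ w, l < (Lp).length) :
    ∀ m, ∀ l ∈ rep m w, l < (Lp).length := by
  intro m
  induction m with
  | zero => intro l h; simp [rep] at h
  | succ m ih => exact lapp hw ih

theorem lnil : ∀ l ∈ ([] : List Nat), l < (Lp).length := by simp

theorem ev_rep (w : List Nat) : ∀ m, ev Lp (rep m w) = ev Lp w ^ m := by
  intro m
  induction m with
  | zero => simp [rep]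
  | succ m ih => rw [show rep (m + 1) w = w ++ rep m w from rfl, ev_append, ih, pow_succ']

theorem eqW {u w : List Nat} (hu : ∀ l ∈ u, l < (Lp).length) (hw : ∀ l ∈ w, l < (Lp).length) :
    ST.eqB Tb u w = true ↔ ev Lp u = ev Lp w :=
  VT.eqB_iff kT hu hw

/-- The element of order 29. -/
noncomputable def U : Gr := ev Lp uW

/-- The element of order 14. -/
noncomputable def S : Gr := ev Lp sW

/-- The involution. -/
noncomputable def Z : Gr := ev Lp zW

theorem ev_tW : ev Lp tW = S * S := ev_append _ _ _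

theorem U_pow : U ^ 29 = 1 := by
  have h := (cond_false_eq_true.mp u_ok).1
  rwa [eqW (lrep lu 29) lnil, ev_rep, ev_nil] at h

theorem orderOf_U : orderOf U = 29 := by
  have : Fact (Nat.Prime 29) := ⟨by norm_num⟩
  refine orderOf_eq_prime U_pow fun h1 => ?_
  have h := (cond_false_eq_true.mp u_ok).2
  rw [(eqW lu lnil).mpr (by rw [ev_nil]; exact h1)] at h
  exact Bool.noConfusion h

theorem U_S : U * S = S * U ^ 4 := by
  have h := (eqW (lapp lu ls) (lapp ls (lrep lu 4))).mp s_ok
  rwa [ev_append, ev_append, ev_rep] at h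

theorem U_pow_S : ∀ m, U ^ m * S = S * U ^ (4 * m) := by
  intro m
  induction m with
  | zero => simp
  | succ m ih =>
    rw [pow_succ, mul_assoc, U_S, ← mul_assoc, ih, mul_assoc, ← pow_add]
    ring_nf

theorem tabU_eq {p : Nat} (hp : p < 4060) : tabU p = im ρ U p := by
  rw [Nat.eq_of_beq_eq_true (of_allBelow tabU_ok p hp), followF_eq, ← im_ev matchesTb lu hp]
  rfl

theorem tabT_eq {p : Nat} (hp : p < 4060) : tabT p = im ρ (S * S) p := by
  rw [Nat.eq_of_beq_eq_true (of_allBelow tabT_ok p hp), followF_eq, ← im_ev matchesTb lt hp, ev_tW]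

theorem iterF_eq {tab : Nat → Nat} {x : Gr} (h : ∀ p < 4060, tab p = im ρ x p) {q : Nat}
    (hq : q < 4060) : ∀ e, iterF tab e q = im ρ (x ^ e) q := by
  intro e
  induction e with
  | zero => rw [pow_zero, im_one]; rfl
  | succ e ih =>
    show force (iterF tab e q) tab = _
    rw [force_eq, ih, h _ (im_lt _ hq), ← im_mul, pow_succ]

theorem img_of_commute {D : SiftData} (hk : D.k = 4) (V : D.Valid Lp ρ Tb) {tab : Nat → Nat}
    {x g : Gr} (h : ∀ p < 4060, tab p = im ρ x p) {E : List Nat}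
    (hB : allBelow 2 4 (fun i => Nat.beq (D.B i) (iterF tab (E.getD i 0) (D.B 0))) = true)
    (hc : Commute x g) (i : Nat) (hi : i < D.k) :
    iterF tab (E.getD i 0) (im ρ g (D.B 0)) = im ρ g (D.B i) := by
  have h0 : D.B 0 < 4060 := V.base_lt (by omega)
  rw [iterF_eq h (im_lt _ h0), ← im_mul, ← (hc.pow_left (E.getD i 0)).eq, im_mul,
    Nat.eq_of_beq_eq_true (of_allBelow hB i (hk ▸ hi)), iterF_eq h h0]

theorem commB_of {D : SiftData} (hk : D.k = 4) (V : D.Valid Lp ρ Tb) {tab : Nat → Nat}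
    {x : Gr} (h : ∀ p < 4060, tab p = im ρ x p) {w : List Nat} (hl : ∀ l ∈ w, l < (Lp).length)
    (hc : Commute x (ev Lp w)) : commB D tab w = true := by
  refine allBelow_of (by norm_num) fun i hi => ?_
  have hB := V.base_lt (i := i) (by omega)
  simp only [force_eq, followF_eq]
  rw [← im_ev matchesTb hl hB, h _ hB, h _ (im_lt _ hB), ← im_ev matchesTb hl (im_lt _ hB),
    ← im_mul, ← im_mul, hc.eq]
  exact Nat.beq_refl _

theorem mem_cent_U {x : Gr} (hc : Commute U x) : ∃ i, x = U ^ i := by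
  have hU : ∀ p < 4060, tabU p = im ρ U p := fun p hp => tabU_eq hp
  have h0 : SU.B 0 < 4060 := VU.base_lt (by decide)
  have himg := img_of_commute rfl VU hU baseU hc
  obtain ⟨w, hl, he, hp⟩ := VU.of_siftAll (x := x) himg
    (of_allBelow centU_all _ (im_lt _ h0))
  rw [commB_of rfl VU hU hl (he ▸ hc), cond_true] at hp
  cases hh : allBelow 5 29 fun i => cond (Nat.beq (im ρ x (SU.B 0)) (iterF tabU i (SU.B 0))) false true
  · by_contra hne
    rw [not_exists] at hne
    have : allBelow 5 29 (fun i => cond (Nat.beq (im ρ x (SU.B 0)) (iterF tabU i (SU.B 0)))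
        false true) = true := by
      refine allBelow_of (by norm_num) fun i _ => ?_
      cases hb : Nat.beq (im ρ x (SU.B 0)) (iterF tabU i (SU.B 0))
      · rfl
      · exfalso
        have e := Nat.eq_of_beq_eq_true hb
        refine hne i (VU.ext fun j hj => ?_)
        rw [← himg j hj, ← img_of_commute rfl VU hU baseU (Commute.self_pow U i) j hj, e,
          iterF_eq hU h0]
    rw [this] at hh
    exact Bool.noConfusion hh
  · rw [hh, cond_true] at hp
    exact Bool.noConfusion hp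

theorem sylow_conj (φ : MulAut Gr) : ∃ x : Gr, ∃ k : Nat, x * φ U * x⁻¹ = U ^ k := by
  have := card_P_le.1
  have : Fact (Nat.Prime 29) := ⟨by norm_num⟩
  have hc : ∀ V : Gr, orderOf V = 29 →
      Nat.card (Subgroup.zpowers V) = 29 ^ (Nat.card Gr).factorization 29 := by
    intro V hV
    rw [Nat.card_zpowers, hV, card_P.1]
    have : (145926144000 : Nat).factorization 29 = 1 := by
      rw [Nat.factorization_def _ (by norm_num), show (145926144000 : Nat) = 29 * 5031936000 from
        by norm_num, padicValNat.mul (by norm_num) (by norm_num), padicValNat.self (by norm_num),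
        padicValNat.eq_zero_of_not_dvd (by norm_num)]
    rw [this, pow_one]
  have h2 : orderOf (φ U) = 29 := by rw [MulEquiv.orderOf_eq, orderOf_U]
  obtain ⟨x, hx⟩ := MulAction.exists_smul_eq Gr (Sylow.ofCard _ (hc _ h2))
    (Sylow.ofCard _ (hc _ orderOf_U))
  have hm : x * φ U * x⁻¹ ∈ Subgroup.zpowers U := by
    have h1 : x * φ U * x⁻¹ ∈ ((x • Sylow.ofCard _ (hc _ h2) : Sylow 29 Gr) : Subgroup Gr) := by
      rw [Sylow.coe_subgroup_smul]
      exact ⟨φ U, Subgroup.mem_zpowers _, rfl⟩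
    rw [hx] at h1
    exact h1
  obtain ⟨k, hk⟩ := Submonoid.mem_powers_iff _ _ |>.mp
    ((isOfFinOrder_of_finite U).mem_powers_iff_mem_zpowers.mpr hm)
  exact ⟨x, k, hk.symm⟩

theorem conj_S_pow : ∀ j m : Nat, S ^ j * U ^ m * (S ^ j)⁻¹ = U ^ (22 ^ j * m) := by
  have h1 : ∀ m, S * U ^ m * S⁻¹ = U ^ (22 * m) := by
    intro m
    rw [mul_inv_eq_iff_eq_mul, U_pow_S, ← pow_mod_orderOf U (4 * (22 * m)), orderOf_U,
      show 4 * (22 * m) % 29 = m % 29 by omega, ← orderOf_U, pow_mod_orderOf]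
  intro j
  induction j with
  | zero => intro m; simp
  | succ j ih =>
    intro m
    rw [pow_succ, mul_inv_rev, show S ^ j * S * U ^ m * (S⁻¹ * (S ^ j)⁻¹) =
      S ^ j * (S * U ^ m * S⁻¹) * (S ^ j)⁻¹ by group, h1, ih, pow_succ, mul_assoc]

theorem exists_coset : ∀ k : Fin 29, k ≠ 0 →
    ∃ j : Fin 14, 22 ^ (j : Nat) * (k : Nat) % 29 ∈ [1, 2] := by
  decide +kernel

/-- An automorphism composed with an inner one sends `U` to `U` or `U ^ 2` and fixes `S`. -/
theorem exists_fix (φ : MulAut Gr) : ∃ x : Gr, ∃ c, (c = 1 ∨ c = 2) ∧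
    (MulAut.conj x * φ) U = U ^ c ∧ (MulAut.conj x * φ) S = S := by
  obtain ⟨x, k, hk⟩ := sylow_conj φ
  have hk0 : k % 29 ≠ 0 := by
    intro h0
    rw [← pow_mod_orderOf, orderOf_U, h0, pow_zero, conj_eq_one_iff] at hk
    have := orderOf_U
    rw [φ.injective (hk.trans (map_one φ).symm), orderOf_one] at this
    exact absurd this (by norm_num)
  obtain ⟨j, hj⟩ := exists_coset ⟨k % 29, Nat.mod_lt _ (by norm_num)⟩
    (fun h => hk0 (congrArg Fin.val h))
  set c := 22 ^ (j : Nat) * k % 29 with hc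
  have hc12 : c = 1 ∨ c = 2 := by
    rw [hc, Nat.mul_mod]
    rw [Nat.mul_mod, Nat.mod_mod] at hj
    simpa using hj
  have hU : (MulAut.conj (S ^ (j : Nat) * x) * φ) U = U ^ c := by
    simp only [MulAut.mul_apply, MulAut.conj_apply]
    rw [show S ^ (j : Nat) * x * φ U * (S ^ (j : Nat) * x)⁻¹ =
      S ^ (j : Nat) * (x * φ U * x⁻¹) * (S ^ (j : Nat))⁻¹ by group, hk, conj_S_pow,
      ← pow_mod_orderOf, orderOf_U]
  generalize S ^ (j : Nat) * x = y at hU
  clear_value c
  set ψ := MulAut.conj y * φ with hψ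
  have h2 : U ^ c * ψ S = ψ S * U ^ (4 * c) := by
    rw [← hU, ← map_mul, U_S, map_mul, map_pow, hU, ← pow_mul, Nat.mul_comm]
  have hcomm : Commute (U ^ c) (ψ S * S⁻¹) := by
    show U ^ c * (ψ S * S⁻¹) = ψ S * S⁻¹ * U ^ c
    rw [← mul_assoc, h2, mul_assoc, mul_assoc]
    congr 1
    rw [mul_inv_eq_iff_eq_mul, mul_assoc, U_pow_S, inv_mul_cancel_left]
  have hcU : Commute U (ψ S * S⁻¹) := by
    rcases hc12 with rfl | rfl
    · simpa using hcomm
    · have := hcomm.pow_left 15
      rwa [← pow_mul, show 2 * 15 = 29 + 1 from rfl, pow_add, U_pow, pow_one, one_mul] at this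
  obtain ⟨i, hi⟩ := mem_cent_U hcU
  rw [mul_inv_eq_iff_eq_mul] at hi
  refine ⟨U ^ (18 * i) * y, c, hc12, ?_, ?_⟩
  all_goals rw [map_mul, mul_assoc (MulAut.conj (U ^ (18 * i))), ← hψ, MulAut.mul_apply,
    MulAut.conj_apply]
  · rw [hU, ((Commute.refl U).pow_pow (18 * i) c).eq, mul_inv_cancel_right]
  · rw [hi, mul_inv_eq_iff_eq_mul, ← mul_assoc, ← pow_add, U_pow_S]
    congr 1
    rw [← pow_mod_orderOf U (4 * (18 * i + i)), ← pow_mod_orderOf U (18 * i), orderOf_U,
      show 4 * (18 * i + i) % 29 = 18 * i % 29 from by omega]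

/-- The tests as a property of two elements. -/
def Test (u g : Gr) : Prop :=
  (u * g) ^ 15 = 1 ∧ ((u * g) * ((u ^ 2 * g) * (u ^ 3 * g))) ^ 26 = 1

theorem tests_iff (c : Nat) {w : List Nat} (hw : ∀ l ∈ w, l < (Lp).length) :
    tests c w = true ↔ Test (U ^ c) (ev Lp w) := by
  have h1 := eqW (lrep (lapp (lrep lu c) hw) 15) lnil
  have h3 := eqW (u := t3W c w)
    (lrep (lapp (lapp (lrep lu c) hw) (lapp (lapp (lrep lu (2 * c)) hw) (lapp (lrep lu (3 * c)) hw))) 26)
    lnil
  simp only [t3W, ev_rep, ev_append, ev_nil, Nat.mul_eq] at h1 h3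
  unfold tests Test
  rw [cond_false_eq_true, t3W, ← pow_mul, ← pow_mul, Nat.mul_comm c 2, Nat.mul_comm c 3]
  simp only [Nat.mul_eq]
  exact and_congr h1 h3

theorem Z_test : Test U Z := by
  have h := (tests_iff 1 lz).mp z_tests
  rwa [pow_one] at h

theorem Z_comm : Z * (S * S) = (S * S) * Z := by
  have h := (eqW (lapp lz lt) (lapp lt lz)).mp z_comm
  rwa [ev_append, ev_append, ev_tW] at h

theorem Z_sq : Z * Z = 1 := by
  have h := (eqW (lapp lz lz) lnil).mp z_sq
  rwa [ev_append, ev_nil] at h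

theorem one_image {g : Gr} (hc : Commute (S * S) g) (h2 : g * g = 1) :
    ¬ Test (U ^ 2) g ∧ (Test U g → g = Z) := by
  have hT : ∀ p < 4060, tabT p = im ρ (S * S) p := fun p hp => tabT_eq hp
  have h0 : ST.B 0 < 4060 := VT.base_lt (by decide)
  obtain ⟨w, hl, rfl, hp⟩ := VT.of_siftAll (x := g) (img_of_commute rfl VT hT baseT hc)
    (of_allBelow centT_all _ (im_lt _ h0))
  rw [commB_of rfl VT hT hl hc, cond_true, (eqW (lapp hl hl) lnil).mpr
    (by rw [ev_append, h2, ev_nil]), cond_true] at hp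
  cases ha : tests 2 w
  · rw [ha, cond_false] at hp
    refine ⟨fun h => ?_, fun h1 => ?_⟩
    · rw [(tests_iff 2 hl).mpr h] at ha
      exact Bool.noConfusion ha
    · cases hb : ST.eqB Tb w zW
      · rw [hb, cond_false, (tests_iff 1 hl).mpr (by rwa [pow_one]), cond_true] at hp
        exact Bool.noConfusion hp
      · exact (eqW hl lz).mp hb
  · rw [ha, cond_true] at hp
    exact Bool.noConfusion hp

theorem fix_Z (ψ : MulAut Gr) {c : Nat} (hc : c = 1 ∨ c = 2) (hU : ψ U = U ^ c) (hS : ψ S = S) :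
    c = 1 ∧ ψ Z = Z := by
  have h := one_image (g := ψ Z) ?_ ?_
  · have ht : Test (U ^ c) (ψ Z) := by
      constructor
      · simpa [hU] using congrArg ψ Z_test.1
      · simpa [hU] using congrArg ψ Z_test.2
    rcases hc with rfl | rfl
    · rw [pow_one] at ht
      exact ⟨rfl, h.2 ht⟩
    · exact absurd ht h.1
  · show S * S * ψ Z = ψ Z * (S * S)
    simpa [hS] using congrArg ψ Z_comm.symm
  · simpa using congrArg ψ Z_sq

theorem gen_mem (l : Nat) (hl : l < 5) : fl Lp l ∈ Subgroup.closure ({U, Z} : Set Gr) := by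
  have h := cond_false_eq_true.mp (of_allBelow gen_ok l hl)
  have e := (eqW (lt5 h.1 (List.mem_singleton_self _))
    (fun x hx => by rw [List.mem_singleton.mp hx, len_Lp]; exact hl)).mp h.2
  rw [ev_cons, ev_nil, mul_one] at e
  rw [← e]
  generalize genA.getD l [] = a
  induction a with
  | nil => rw [show sylW [] = [] from rfl, ev_nil]; exact one_mem _
  | cons m a ih =>
    rw [show sylW (m :: a) = (rep m uW ++ zW) ++ sylW a from rfl, ev_append, ev_append, ev_rep]
    exact mul_mem (mul_mem (pow_mem (Subgroup.subset_closure (by simp [U])) m)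
      (Subgroup.subset_closure (by simp [Z]))) ih

theorem closure_UZ : Subgroup.closure ({U, Z} : Set Gr) = ⊤ := by
  rw [eq_top_iff, ← closure_Lp, Subgroup.closure_le]
  intro y hy
  obtain ⟨l, hl, rfl⟩ := List.getElem_of_mem hy
  have := gen_mem l (len_Lp ▸ hl)
  rwa [fl, List.getD_eq_getElem _ _ hl] at this

/-- Every automorphism is inner. -/
theorem inner (φ : MulAut Gr) : φ ∈ Cfsg.Inn Gr := by
  obtain ⟨x, c, hc, hU, hS⟩ := exists_fix φ
  obtain ⟨rfl, hZ⟩ := fix_Z _ hc hU hS
  rw [pow_one] at hU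
  have e : MulAut.conj x * φ = 1 := by
    refine MulEquiv.ext fun y => ?_
    have hy : y ∈ Subgroup.closure ({U, Z} : Set Gr) := closure_UZ ▸ Subgroup.mem_top y
    induction hy using Subgroup.closure_induction with
    | mem y hy => rcases hy with rfl | rfl <;> assumption
    | one => simp
    | mul a b _ _ ha hb => rw [map_mul, ha, hb]; rfl
    | inv a _ ha => rw [map_inv, ha]; rfl
  exact ⟨x⁻¹, by rw [map_inv]; exact inv_eq_of_mul_eq_one_right e⟩

end CfsgLib.Coset.Ru.Out
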